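import Groth.Prelude.Def_DefoSh
import Groth.Agent.QC70.Stalk
import Groth.Agent.Cohen12.CohenFS

set_option autoImplicit false
set_option maxHeartbeats 400000
set_option backward.isDefEq.respectTransparency.types false

/-!
# Morphisms of deformations are isomorphisms
-/

universe u

open CategoryTheory AlgebraicGeometry

namespace Groth.Agent.H98Defo

/-- A map of modules over an Artinian local ring, flat in the target, which is the identity modulo the
maximal ideal, is bijective. -/
lemma bijective_of_reduction {A M N E : Type u} [CommRing A] [IsLocalRing A] [AddCommGroup M]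
    [Module A M] [AddCommGroup N] [Module A N] [AddCommGroup E] [Module.Flat A N]
    (hm : IsNilpotent (IsLocalRing.maximalIdeal A))
    (f : M →ₗ[A] N) (πM : M →+ E) (πN : N →+ E) (hf : ∀ v, πN (f v) = πM v)
    (hM : Function.Surjective πM)
    (hkM : ∀ v, πM v = 0 → v ∈ IsLocalRing.maximalIdeal A • (⊤ : Submodule A M))
    (hkN : ∀ v, πN v = 0 → v ∈ IsLocalRing.maximalIdeal A • (⊤ : Submodule A N)) :
    Function.Bijective f := by
  have hnil : ∀ {P : Type u} [AddCommGroup P] [Module A P] (S : Submodule A P) (T : Submodule A P),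
      T ≤ S ⊔ IsLocalRing.maximalIdeal A • T → T ≤ S := by
    intro P _ _ S T hT
    obtain ⟨j, hj⟩ := hm
    have h : ∀ i, T ≤ S ⊔ (IsLocalRing.maximalIdeal A ^ i) • T := by
      intro i
      induction i with
      | zero => simp
      | succ i ih =>
        refine ih.trans (sup_le le_sup_left ?_)
        refine (Submodule.smul_mono le_rfl hT).trans ?_
        rw [Submodule.smul_sup, ← Submodule.mul_smul, ← pow_succ]
        exact sup_le_sup_right Submodule.smul_le_right _
    simpa [hj] using h j
  have hsurj : Function.Surjective f := by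
    refine LinearMap.range_eq_top.mp (top_le_iff.mp (hnil _ ⊤ fun v _ => ?_))
    obtain ⟨w, hw⟩ := hM (πN v)
    have h : v - f w ∈ IsLocalRing.maximalIdeal A • (⊤ : Submodule A N) :=
      hkN _ (by rw [map_sub, hf, hw, sub_self])
    simpa using add_mem (Submodule.mem_sup_left (T := IsLocalRing.maximalIdeal A • (⊤ : Submodule A N))
      (LinearMap.mem_range_self f w)) (Submodule.mem_sup_right h)
  refine ⟨?_, hsurj⟩
  haveI : Module.Free A N := Cohen12.free_of_flat_of_nilpotent hm
  obtain ⟨s, hs⟩ := Module.projective_lifting_property f LinearMap.id hsurj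
  let p : M →ₗ[A] M := LinearMap.id - s.comp f
  have hp : ∀ v, f (p v) = 0 := fun v => by
    show f (v - s (f v)) = 0
    rw [map_sub, show f (s (f v)) = f v from LinearMap.congr_fun hs (f v), sub_self]
  refine LinearMap.ker_eq_bot.mp (le_bot_iff.mp (hnil ⊥ _ fun v hv => Submodule.mem_sup_right ?_))
  have hv0 : πM v = 0 := by rw [← hf, LinearMap.mem_ker.mp hv, map_zero]
  have hpv : p v = v := by
    show v - s (f v) = v
    rw [LinearMap.mem_ker.mp hv, map_zero, sub_zero]
  rw [← hpv]
  have h1 : p v ∈ (IsLocalRing.maximalIdeal A • (⊤ : Submodule A M)).map p :=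
    Submodule.mem_map_of_mem (hkM v hv0)
  rw [Submodule.map_smul''] at h1
  refine Submodule.smul_mono le_rfl ?_ h1
  rintro _ ⟨w, -, rfl⟩
  exact hp w

variable {k : Type u} [Field k] {X : Scheme.{u}} [X.Over (Spec (CommRingCat.of k))]

theorem isIso_of_comm {E : X.Modules} {A : ArtFun.Art k k} (D D' : DefoSh.Defo E A)
    (φ : D.sheaf ⟶ D'.sheaf) (hact : ∀ a : A, D.act a ≫ φ = φ ≫ D'.act a) (hπ : φ ≫ D'.π = D.π) :
    IsIso φ := by
  refine QC70.isIso_of_bijective_stalkMapM φ fun x => ?_
  letI := D.stalkMod x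
  letI := D'.stalkMod x
  haveI : Module.Flat A (D'.sheaf.presheaf.stalk x) := D'.flat x
  let f : D.sheaf.presheaf.stalk x →ₗ[A] D'.sheaf.presheaf.stalk x :=
    { toFun := fun v => RefHull.stalkMapₗ φ x v
      map_add' := fun v w => map_add _ v w
      map_smul' := fun a v => by
        show RefHull.stalkMapₗ φ x (RefHull.stalkMapₗ (D.act a) x v) =
          RefHull.stalkMapₗ (D'.act a) x (RefHull.stalkMapₗ φ x v)
        rw [← DefoSh.stalkMapₗ_comp_apply, ← DefoSh.stalkMapₗ_comp_apply, hact a] }
  exact bijective_of_reduction ((isArtinianRing_iff_isNilpotent_maximalIdeal A).1 inferInstance) f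
    (AddMonoidHom.mk' (fun v => RefHull.stalkMapₗ D.π x v) fun v w => map_add _ v w)
    (AddMonoidHom.mk' (fun v => RefHull.stalkMapₗ D'.π x v) fun v w => map_add _ v w)
    (fun v => by
      show RefHull.stalkMapₗ D'.π x (RefHull.stalkMapₗ φ x v) = RefHull.stalkMapₗ D.π x v
      rw [← DefoSh.stalkMapₗ_comp_apply, hπ])
    (D.surj x) (D.ker_le x) (D'.ker_le x)

end Groth.Agent.H98Defo
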